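import Mathlib

/-! The left Kan extension along a representably flat functor of large categories with small hom types is
left exact on presheaves of abelian groups. -/

set_option autoImplicit false

universe v

open CategoryTheory CategoryTheory.Limits Opposite

namespace Groth.Agent.AnSite

variable {C D : Type (v + 1)} [Category.{v} C] [Category.{v} D] (E : Type (v + 2)) [Category.{v + 1} E]

set_option backward.defeqAttrib.useBackward true in
set_option backward.isDefEq.respectTransparency false in
/-- The evaluation of the left Kan extension is the colimit over costructured arrows. -/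
noncomputable def lanEvaluationIsoColim' (F : C ⥤ D) (X : D) [∀ H : C ⥤ E, F.HasLeftKanExtension H]
    [∀ X : D, HasColimitsOfShape (CostructuredArrow F X) E] :
    F.lan ⋙ (evaluation D E).obj X ≅
      (Functor.whiskeringLeft _ _ E).obj (CostructuredArrow.proj F X) ⋙ colim :=
  NatIso.ofComponents (fun G =>
    IsColimit.coconePointUniqueUpToIso
    (Functor.isPointwiseLeftKanExtensionLeftKanExtensionUnit F G X)
    (colimit.isColimit _)) (fun {G₁ G₂} φ => by
      apply (Functor.isPointwiseLeftKanExtensionLeftKanExtensionUnit F G₁ X).hom_ext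
      intro T
      have h₁ := fun (G : C ⥤ E) => IsColimit.comp_coconePointUniqueUpToIso_hom
        (Functor.isPointwiseLeftKanExtensionLeftKanExtensionUnit F G X) (colimit.isColimit _) T
      have h₂ := congr_app (F.lanUnit.naturality φ) T.left
      dsimp at h₁ h₂ ⊢
      simp only [Category.assoc] at h₁ ⊢
      simp only [Functor.lan, Functor.lanUnit] at h₂ ⊢
      rw [reassoc_of% h₁, NatTrans.naturality_assoc, ← reassoc_of% h₂, h₁,
        ι_colimMap, Functor.whiskerLeft_app]
      rfl)

theorem preservesFiniteLimits_lan (F : C ⥤ D) [RepresentablyFlat F]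
    [∀ H : Cᵒᵖ ⥤ AddCommGrpCat.{v + 1}, F.op.HasLeftKanExtension H] :
    PreservesFiniteLimits (F.op.lan : _ ⥤ Dᵒᵖ ⥤ AddCommGrpCat.{v + 1}) := by
  apply preservesFiniteLimits_of_preservesFiniteLimitsOfSize.{v + 1}
  intro J _ _
  apply preservesLimitsOfShape_of_evaluation (F.op.lan : (Cᵒᵖ ⥤ AddCommGrpCat.{v + 1}) ⥤ Dᵒᵖ ⥤ AddCommGrpCat.{v + 1}) J
  intro K
  haveI : IsFiltered (CostructuredArrow F.op K) :=
    IsFiltered.of_equivalence (structuredArrowOpEquivalence F (unop K))
  haveI : IsFiltered (AsSmall.{v + 1} (CostructuredArrow F.op K)) := IsFiltered.of_equivalence AsSmall.equiv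
  haveI : PreservesColimitsOfShape (CostructuredArrow F.op K) (forget AddCommGrpCat.{v + 1}) :=
    preservesColimitsOfShape_of_equiv (AsSmall.equiv (C := CostructuredArrow F.op K)).symm _
  exact preservesLimitsOfShape_of_natIso (lanEvaluationIsoColim' AddCommGrpCat.{v + 1} F.op K).symm

end Groth.Agent.AnSite
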