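import Mathlib
import Groth.Prelude.Def_AnEps
import Groth.Agent.AnPts.Morph
import Groth.Agent.AnSite.Lan

/-! The comparison functor from the etale site to the classical site is a morphism of sites. -/

set_option autoImplicit false
set_option backward.isDefEq.respectTransparency false
set_option backward.isDefEq.respectTransparency.types false

open AlgebraicGeometry CategoryTheory CategoryTheory.Limits TopologicalSpace Topology Opposite

namespace Groth.Agent.AnSite

open An An.Pts Groth.Agent.AnPts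

noncomputable section

variable (X : Scheme.{0}) [X.Over SC] [LocallyOfFiniteType (X ↘ SC)]

theorem etale_str (U : X.Etale) : Etale (U.left ↘ X) := U.prop

theorem locallyOfFiniteType_left (U : X.Etale) : LocallyOfFiniteType (U.left ↘ SC) := by
  haveI := etale_str X U
  exact inferInstanceAs (LocallyOfFiniteType ((U.left ↘ X) ≫ (X ↘ SC)))

variable [Fact EtaleLH]

theorem exists_cone_pair (A : Cl (Pts X)) (U V : X.Etale) (f : A ⟶ (eps X).obj U) (g : A ⟶ (eps X).obj V) :
    ∃ (W : X.Etale) (h : A ⟶ (eps X).obj W) (p : W ⟶ U) (q : W ⟶ V),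
      h ≫ (eps X).map p = f ∧ h ≫ (eps X).map q = g := by
  haveI := etale_str X U; haveI := etale_str X V
  haveI := locallyOfFiniteType_left X U; haveI := locallyOfFiniteType_left X V
  let P := pullback (U.left ↘ X) (V.left ↘ X)
  haveI : Etale (pullback.fst (U.left ↘ X) (V.left ↘ X) ≫ (U.left ↘ X)) := inferInstance
  let W : X.Etale := MorphismProperty.Over.mk _ (pullback.fst (U.left ↘ X) (V.left ↘ X) ≫ (U.left ↘ X)) ‹_›
  let p : W ⟶ U := MorphismProperty.Over.homMk (pullback.fst _ _) rfl trivial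
  let q : W ⟶ V := MorphismProperty.Over.homMk (pullback.snd _ _) pullback.condition.symm trivial
  have hhom := isHomeomorph_pullback (U.left ↘ X) (V.left ↘ X)
  let Φ := hhom.homeomorph
  let e : @Pts P (pullbackOver _ _) → @Pts W.left (etaleOverLeft X W) :=
    fun z => Pts.cast _ _ (Category.assoc _ _ _).symm z
  have he : Continuous e := (Pts.cast _ _ _).continuous
  have hc : ∀ a : A.E, Pts.map (U.left ↘ X) (f.toFun a) = Pts.map (V.left ↘ X) (g.toFun a) := fun a =>
    (f.over a).trans (g.over a).symm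
  let h₀ : A.E → {q : Pts U.left × Pts V.left // Pts.map (U.left ↘ X) q.1 = Pts.map (V.left ↘ X) q.2} :=
    fun a => ⟨(f.toFun a, g.toFun a), hc a⟩
  have hΦ : ∀ a, Φ (Φ.symm (h₀ a)) = h₀ a := fun a => Φ.apply_symm_apply _
  refine ⟨W, ⟨fun a => e (Φ.symm (h₀ a)),
    he.comp (Φ.symm.continuous.comp ((f.continuous.prodMk g.continuous).subtype_mk _)), fun a => ?_⟩, p, q,
    Cl.hom_ext (funext fun a => ?_), Cl.hom_ext (funext fun a => ?_)⟩
  · have h1 := congrArg (fun s => s.1.1) (hΦ a)
    refine Eq.trans ?_ (f.over a)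
    refine Eq.trans ?_ (congrArg (Pts.map (U.left ↘ X)) h1)
    exact Subtype.ext (Category.assoc _ _ _).symm
  · exact Subtype.ext (congrArg Subtype.val (congrArg (fun s => s.1.1) (hΦ a)))
  · exact Subtype.ext (congrArg Subtype.val (congrArg (fun s => s.1.2) (hΦ a)))

theorem exists_cone_parallel (A : Cl (Pts X)) (U V : X.Etale) (f : A ⟶ (eps X).obj U) (g₁ g₂ : U ⟶ V)
    (h : f ≫ (eps X).map g₁ = f ≫ (eps X).map g₂) :
    ∃ (W : X.Etale) (k : A ⟶ (eps X).obj W) (p : W ⟶ U), p ≫ g₁ = p ≫ g₂ ∧ k ≫ (eps X).map p = f := by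
  haveI := etale_str X U; haveI := etale_str X V
  haveI := locallyOfFiniteType_left X U; haveI := locallyOfFiniteType_left X V
  have w₁ : g₁.left ≫ (V.left ↘ X) = U.left ↘ X := Over.w g₁.hom
  have w₂ : g₂.left ≫ (V.left ↘ X) = U.left ↘ X := Over.w g₂.hom
  let m : U.left ⟶ pullback (V.left ↘ X) (V.left ↘ X) := pullback.lift g₁.left g₂.left (w₁.trans w₂.symm)
  let i := pullback.fst m (pullback.diagonal (V.left ↘ X))
  haveI : IsOpenImmersion i := inferInstance
  let O : U.left.Opens := i.opensRange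
  have hO : O.ι ≫ g₁.left = O.ι ≫ g₂.left := by
    have h1 : i ≫ g₁.left = i ≫ g₂.left := by
      have := pullback.condition (f := m) (g := pullback.diagonal (V.left ↘ X))
      have e1 := congrArg (fun s => s ≫ pullback.fst _ _) this
      have e2 := congrArg (fun s => s ≫ pullback.snd _ _) this
      simp only [Category.assoc, m, pullback.lift_fst, pullback.lift_snd, pullback.diagonal_fst,
        pullback.diagonal_snd, Category.comp_id] at e1 e2
      exact e1.trans e2.symm
    rw [← cancel_epi i.isoOpensRange.hom, ← Category.assoc, ← Category.assoc, Scheme.Hom.isoOpensRange_hom_ι]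
    exact h1
  haveI : Etale (O.ι ≫ (U.left ↘ X)) := inferInstance
  let W : X.Etale := MorphismProperty.Over.mk _ (O.ι ≫ (U.left ↘ X)) ‹_›
  let p : W ⟶ U := MorphismProperty.Over.homMk O.ι rfl trivial
  haveI : IsOpenImmersion p.left := inferInstanceAs (IsOpenImmersion O.ι)
  have hmem : ∀ a : A.E, f.toFun a ∈ Set.range (Pts.map p.left) := by
    intro a
    rw [range_map_of_isOpenImmersion, Set.mem_preimage]
    change (f.toFun a).pt ∈ Set.range O.ι
    rw [Scheme.Opens.range_ι]
    have e : (f.toFun a).1 ≫ g₁.left = (f.toFun a).1 ≫ g₂.left :=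
      congrArg Subtype.val (congrFun (congrArg Cl.Hom.toFun h) a)
    have e' : (f.toFun a).1 ≫ m = ((f.toFun a).1 ≫ g₁.left) ≫ pullback.diagonal (V.left ↘ X) := by
      apply pullback.hom_ext <;> simp [m, e]
    exact ⟨pullback.lift (f.toFun a).1 ((f.toFun a).1 ≫ g₁.left) e' cpt, by
      rw [← Scheme.Hom.comp_apply, pullback.lift_fst]; rfl⟩
  let Φ := (isOpenEmbedding_map p.left).isEmbedding.toHomeomorph
  have hΦ : ∀ a, Pts.map p.left (Φ.symm ⟨f.toFun a, hmem a⟩) = f.toFun a := fun a =>
    congrArg Subtype.val (Φ.apply_symm_apply ⟨f.toFun a, hmem a⟩)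
  refine ⟨W, ⟨fun a => Φ.symm ⟨f.toFun a, hmem a⟩, Φ.symm.continuous.comp (f.continuous.subtype_mk _),
    fun a => ?_⟩, p, MorphismProperty.Over.Hom.ext hO, Cl.hom_ext (funext hΦ)⟩
  refine Eq.trans ?_ (f.over a)
  refine Eq.trans ?_ (congrArg (Pts.map (U.left ↘ X)) (hΦ a))
  exact Subtype.ext (Category.assoc _ _ _).symm

theorem representablyFlat : RepresentablyFlat (eps X) := by
  refine ⟨fun A => ?_⟩
  haveI : Nonempty (StructuredArrow A (eps X)) :=
    ⟨StructuredArrow.mk ((Cl.selfIsTerminal (Pts X)).from A ≫ (epsTopIso X).inv)⟩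
  haveI : IsCofilteredOrEmpty (StructuredArrow A (eps X)) :=
    { cone_objs := fun P Q => by
        obtain ⟨W, h, p, q, hp, hq⟩ := exists_cone_pair X A P.right Q.right P.hom Q.hom
        exact ⟨StructuredArrow.mk h, StructuredArrow.homMk p hp, StructuredArrow.homMk q hq, trivial⟩
      cone_maps := fun P Q s t => by
        obtain ⟨W, k, p, hp, hk⟩ := exists_cone_parallel X A P.right Q.right P.hom s.right t.right
          ((StructuredArrow.w s).trans (StructuredArrow.w t).symm)
        exact ⟨StructuredArrow.mk k, StructuredArrow.homMk p hk, StructuredArrow.hom_ext _ _ hp⟩ }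
  exact { }

theorem exists_mem_of_covering {U : X.Etale} {S : Sieve U} (hS : S ∈ X.smallEtaleTopology U) (w : U.left) :
    ∃ (Z : X.Etale) (g : Z ⟶ U), S g ∧ w ∈ Set.range g.left := by
  obtain ⟨𝒰, _, hP, hle⟩ := (Scheme.mem_smallGrothendieckTopology _ _).1 hS
  obtain ⟨i, y, hy⟩ := 𝒰.exists_eq w
  exact ⟨_, _, hle _ _ ⟨i⟩, y, hy⟩

theorem coverPreserving : CoverPreserving X.smallEtaleTopology (Cl.topology (Pts X)) (eps X) := by
  refine ⟨fun {U S} hS a => ?_⟩
  obtain ⟨Z, g, hg, hw⟩ := exists_mem_of_covering X hS a.pt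
  haveI := locallyOfFiniteType_left X U; haveI := locallyOfFiniteType_left X Z
  haveI := etale_str X U; haveI := etale_str X Z
  obtain ⟨z, hz⟩ : a ∈ Set.range (Pts.map g.left) := by rw [range_map]; exact hw
  haveI : Etale g.left := by
    haveI : Etale (g.left ≫ (U.left ↘ X)) := by
      rw [show g.left ≫ (U.left ↘ X) = Z.left ↘ X from Over.w g.hom]; infer_instance
    exact Etale.of_comp g.left (U.left ↘ X)
  have hl : IsLocalHomeomorph (Pts.map g.left) := (Fact.out : EtaleLH) Z.left U.left g.left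
  obtain ⟨W, hW, he⟩ := isLocalHomeomorph_iff_isOpenEmbedding_restrict.1 hl z
  let W' := interior W
  have hW' : IsOpen (X := ((eps X).obj Z).E) W' := isOpen_interior
  let ι' : Cl.restrictOpen ((eps X).obj Z) W' hW' ⟶ (eps X).obj Z := Cl.restrictOpenι ((eps X).obj Z) W' hW'
  refine ⟨_, ι' ≫ (eps X).map g, ⟨Z, g, ι', hg, rfl⟩, ?_, ⟨z, mem_interior_iff_mem_nhds.2 hW⟩, hz⟩
  exact he.comp (⟨IsEmbedding.inclusion interior_subset, by
    rw [Set.range_inclusion]; exact isOpen_interior.preimage continuous_subtype_val⟩ :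
      IsOpenEmbedding (Set.inclusion (interior_subset : W' ⊆ W)))

theorem epsCont : EpsCont X :=
  haveI := representablyFlat X
  Functor.isContinuous_of_coverPreserving (compatiblePreservingOfFlat _ _) (coverPreserving X)

theorem epsPull_preservesFiniteLimits [EpsCont X] : PreservesFiniteLimits (epsPull X) :=
  haveI := representablyFlat X
  haveI : PreservesFiniteLimits ((eps X).op.lan : _ ⥤ (Cl (Pts X))ᵒᵖ ⥤ AddCommGrpCat.{1}) :=
    preservesFiniteLimits_lan (eps X)
  Functor.sheafPullbackConstruction.preservesFiniteLimits (eps X) AddCommGrpCat.{1} _ _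

end

end Groth.Agent.AnSite
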