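import Mathlib
import Groth.Prelude.Def_AnCl

/-! The opens of a space are a dense subsite of its local homeomorphisms. -/

set_option autoImplicit false

universe u

open CategoryTheory TopologicalSpace Topology Opposite

namespace Groth.Agent.AnSite

open An

variable (T : Type u) [TopologicalSpace T]

theorem isOpenEmbedding_inclusion {X : Type*} [TopologicalSpace X] {s t : Set X} (h : s ⊆ t) (hs : IsOpen s) :
    IsOpenEmbedding (Set.inclusion h) :=
  ⟨IsEmbedding.inclusion h, by rw [Set.range_inclusion]; exact hs.preimage continuous_subtype_val⟩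

theorem toFun_opensToCl_eq {A : Cl T} {U : Opens T} (f : A ⟶ (opensToCl T).obj U) (a : A.E) :
    @Subtype.val T (· ∈ U) (f.toFun a) = A.p a :=
  f.over a

instance : (opensToCl T).Faithful where
  map_injective _ := Subsingleton.elim _ _

instance : (opensToCl T).Full where
  map_surjective {U V} f := by
    refine ⟨homOfLE fun t ht => ?_, Cl.hom_ext (funext fun a => Subtype.ext (toFun_opensToCl_eq T f a).symm)⟩
    have h := toFun_opensToCl_eq T f ⟨t, ht⟩
    have hmem := (f.toFun ⟨t, ht⟩ : V).2
    rw [h] at hmem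
    exact hmem

instance : (opensToCl T).IsCoverDense (Cl.topology T) where
  is_cover A := by
    intro a
    obtain ⟨W, hW, haW, hWe⟩ : ∃ W : Set A.E, IsOpen W ∧ a ∈ W ∧ IsOpenEmbedding (W.domRestrict A.p) := by
      obtain ⟨W, hW, he⟩ := (isLocalHomeomorph_iff_isOpenEmbedding_restrict.1 A.lh) a
      refine ⟨interior W, isOpen_interior, mem_interior_iff_mem_nhds.2 hW, ?_⟩
      exact he.comp (isOpenEmbedding_inclusion interior_subset isOpen_interior)
    let U : Opens T := ⟨A.p '' W, A.lh.isOpenMap _ hW⟩
    let e : W ≃ₜ U := hWe.isEmbedding.toHomeomorph.trans (Homeomorph.setCongr (Set.range_domRestrict _ _))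
    have he : ∀ w : W, ((e w : U) : T) = A.p w := fun w => rfl
    let g : (opensToCl T).obj U ⟶ A := ⟨fun u => (e.symm u : A.E), continuous_subtype_val.comp e.symm.continuous,
      fun u => by rw [← he, e.apply_symm_apply]; rfl⟩
    refine ⟨(opensToCl T).obj U, g, ⟨⟨U, 𝟙 _, g, Category.id_comp _⟩⟩,
      hW.isOpenEmbedding_subtypeVal.comp e.symm.isOpenEmbedding, e ⟨a, haW⟩, ?_⟩
    exact congrArg Subtype.val (e.symm_apply_apply ⟨a, haW⟩)

instance : (opensToCl T).IsDenseSubsite (Opens.grothendieckTopology T) (Cl.topology T) where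
  functorPushforward_mem_iff {U S} := by
    constructor
    · intro h t ht
      obtain ⟨B, g, ⟨V, f, k, hf, hk⟩, -, b, hb⟩ := h ⟨t, ht⟩
      refine ⟨V, f, hf, ?_⟩
      have h1 : @Subtype.val T (· ∈ V) (k.toFun b) = t := by
        rw [hk] at hb
        exact congrArg (fun x : U => (x : T)) hb
      exact h1 ▸ (k.toFun b : V).2
    · intro h a
      obtain ⟨V, f, hf, hV⟩ := h a.1 a.2
      refine ⟨(opensToCl T).obj V, (opensToCl T).map f, ⟨V, f, 𝟙 _, hf, (Category.id_comp _).symm⟩,
        isOpenEmbedding_inclusion f.le V.2, ⟨a.1, hV⟩, Subtype.ext rfl⟩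

theorem opCont : OpCont T :=
  inferInstanceAs ((opensToCl T).IsContinuous (Opens.grothendieckTopology T) (Cl.topology T))

theorem resOpens_isEquivalence [OpCont T] : (resOpens T).IsEquivalence :=
  inferInstanceAs ((opensToCl T).sheafPushforwardContinuous AddCommGrpCat.{u + 1}
    (Opens.grothendieckTopology T) (Cl.topology T)).IsEquivalence

end Groth.Agent.AnSite
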